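import Groth.Agent.InvX.GenLocusPull
import Groth.Agent.InvX.Tensor
import Groth.Agent.PicClLib.Basic

/-!
# A trivialization over an open gives a frame
-/

universe u

set_option backward.isDefEq.respectTransparency false

open CategoryTheory CategoryTheory.Limits AlgebraicGeometry TopologicalSpace Opposite

namespace Groth.Agent.PicAn

open Groth.Agent InvX

variable {X : Scheme.{u}} {L : X.Modules}

theorem exists_frame_of_iso (U : X.Opens) (φ : L.restrict U.ι ≅ Coh.structureModule U.toScheme) :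
    ∃ e : Γ(L, U), IsFrame e := by
  let e' : Γ(L.restrict U.ι, ⊤) := φ.inv.app ⊤ (1 : Γ(U.toScheme, ⊤))
  refine ⟨AModX.res L (le_of_eq U.ι_image_top.symm) (show Γ(L, U.ι ''ᵁ ⊤) from e'), fun V hV => ?_⟩
  obtain ⟨V', rfl⟩ : ∃ V', U.ι ''ᵁ V' = V := ⟨U.ι ⁻¹ᵁ V, by
    rw [Scheme.Hom.image_preimage_eq_opensRange_inf, Scheme.Opens.opensRange_ι]
    exact inf_eq_right.mpr hV⟩
  have hb : Function.Bijective (φ.inv.app V') :=
    (ConcreteCategory.isIso_iff_bijective _).1 (Scheme.Modules.Hom.isIso_iff_isIso_app.1 inferInstance V')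
  have key : ∀ r : Γ(X, U.ι ''ᵁ V'), (show Γ(L.restrict U.ι, V') from
      r • AModX.res L (hV : U.ι ''ᵁ V' ≤ U) (AModX.res L (le_of_eq U.ι_image_top.symm)
        (show Γ(L, U.ι ''ᵁ ⊤) from e'))) = φ.inv.app V' ((U.ι.appIso V').hom r) := by
    intro r
    have h1 : φ.inv.app V' (1 : Γ(U.toScheme, V')) = AModX.res (L.restrict U.ι) le_top e' := by
      rw [← AModX.app_res]
      exact congrArg (φ.inv.app V') (map_one (AModX.resR (le_top : V' ≤ ⊤))).symm
    conv_rhs => rw [show (U.ι.appIso V').hom r = (U.ι.appIso V').hom r • (1 : Γ(U.toScheme, V')) from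
      (mul_one _).symm]
    erw [Scheme.Modules.Hom.app_smul, h1]
    rw [AModX.res_res]
    show r • AModX.res L (U.ι.image_mono (le_top : V' ≤ ⊤)) (show Γ(L, U.ι ''ᵁ ⊤) from e') = (U.ι.appIso V').inv.hom ((U.ι.appIso V').hom r) •
      AModX.res L (U.ι.image_mono (le_top : V' ≤ ⊤)) (show Γ(L, U.ι ''ᵁ ⊤) from e')
    rw [Iso.hom_inv_id_apply]
  have he2 : (fun r : Γ(X, U.ι ''ᵁ V') => (show Γ(L.restrict U.ι, V') from
      r • AModX.res L (hV : U.ι ''ᵁ V' ≤ U) (AModX.res L (le_of_eq U.ι_image_top.symm)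
        (show Γ(L, U.ι ''ᵁ ⊤) from e')))) = (φ.inv.app V') ∘ (U.ι.appIso V').hom := funext key
  have hiso : Function.Bijective (U.ι.appIso V').hom :=
    (ConcreteCategory.isIso_iff_bijective _).1 inferInstance
  exact (congrArg Function.Bijective he2).mpr (hb.comp hiso)

/-- A trivialization after pullback along an open immersion gives a frame on the image. -/
theorem exists_frame_of_pullback {Y : Scheme.{u}} (j : Y ⟶ X) [IsOpenImmersion j]
    (θ : (Scheme.Modules.pullback j).obj L ≅ Coh.structureModule Y) (U : X.Opens) (hU : U = j.opensRange) :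
    ∃ e : Γ(L, U), IsFrame e := by
  subst hU
  refine exists_frame_of_iso j.opensRange ((Scheme.Modules.restrictFunctorIsoPullback _).app L ≪≫
    (Scheme.Modules.pullbackCongr (show j.opensRange.ι = j.isoOpensRange.inv ≫ j by simp)).app L ≪≫
    ((Scheme.Modules.pullbackComp j.isoOpensRange.inv j).app L).symm ≪≫
    (Scheme.Modules.pullback j.isoOpensRange.inv).mapIso θ ≪≫ ?_)
  exact (PicClLib.nonempty_pullback_structureModule _).some

end Groth.Agent.PicAn
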