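import Groth.Agent.PicAn.Spread
import Groth.Agent.GaChar.Units

/-!
# Gluing normalized trivializations on affine space
-/

set_option autoImplicit false
set_option linter.style.haveILetI false
set_option backward.isDefEq.respectTransparency false
set_option backward.isDefEq.respectTransparency.types false
set_option synthInstance.maxHeartbeats 400000

universe u

open CategoryTheory CategoryTheory.Limits AlgebraicGeometry TopologicalSpace Opposite

noncomputable section

namespace Groth.Agent.PicAn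

open Groth.Agent InvX

variable (n : Type u) {X : Scheme.{u}}

/-- the zero section -/
abbrev zsec (X : Scheme.{u}) : X ⟶ 𝔸(n; X) := AffineSpace.homOfVector (𝟙 X) 0

theorem zsec_over : zsec n X ≫ 𝔸(n; X) ↘ X = 𝟙 X := AffineSpace.homOfVector_over _ _

theorem zsec_preimage (U : X.Opens) : zsec n X ⁻¹ᵁ ((𝔸(n; X) ↘ X) ⁻¹ᵁ U) = U := by
  rw [← Scheme.Hom.comp_preimage, zsec_over]
  rfl

theorem zsec_app (U : X.Opens) (r : Γ(X, U)) :
    (zsec n X).app ((𝔸(n; X) ↘ X) ⁻¹ᵁ U) ((𝔸(n; X) ↘ X).app U r) = AModX.resR (zsec_preimage n U).le r := by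
  have h := Scheme.Hom.congr_app (zsec_over n (X := X)) U
  have h2 := ConcreteCategory.congr_hom h r
  rw [Scheme.Hom.comp_app, CommRingCat.comp_apply] at h2
  exact h2.trans rfl

/-- A unit on affine space over a reduced open which is one on the zero section is one. -/
theorem eq_one_of_zsec [IsReduced X] (U : X.Opens) (g : Γ(𝔸(n; X), (𝔸(n; X) ↘ X) ⁻¹ᵁ U)) (hg : IsUnit g)
    (h : (zsec n X).app ((𝔸(n; X) ↘ X) ⁻¹ᵁ U) g = 1) : g = 1 := by
  haveI : IsReduced U.toScheme := isReduced_of_isOpenImmersion U.ι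
  let j : 𝔸(n; U.toScheme) ⟶ 𝔸(n; X) := AffineSpace.map n U.ι
  haveI : IsOpenImmersion j := isOpenImmersion_map n _
  have hr : (𝔸(n; X) ↘ X) ⁻¹ᵁ U = j.opensRange := by rw [opensRange_map, Scheme.Opens.opensRange_ι]
  have htop : j ⁻¹ᵁ ((𝔸(n; X) ↘ X) ⁻¹ᵁ U) = ⊤ := by rw [hr, Scheme.Hom.preimage_opensRange]
  haveI : IsIso (j.app ((𝔸(n; X) ↘ X) ⁻¹ᵁ U)) := j.isIso_app _ hr.le
  let w : Γ(𝔸(n; U.toScheme), ⊤) := AModX.resR htop.ge (j.app _ g)
  obtain ⟨v, -, hv⟩ := GaChar.exists_unit n U.toScheme w ((hg.map _).map _)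
  have hw : (zsec n U.toScheme).appTop w = v := by
    rw [← hv, ← GaChar.appTop_comp, zsec_over, Scheme.Hom.id_appTop]
    rfl
  have hcomm : zsec n U.toScheme ≫ j = U.ι ≫ zsec n X := by
    refine AffineSpace.hom_ext ?_ fun i => ?_
    · simp [j, AffineSpace.map_over, AffineSpace.homOfVector_over, AffineSpace.homOfVector_over_assoc]
    · simp [j, Scheme.Hom.comp_appTop, CommRingCat.comp_apply, AffineSpace.homOfVector_appTop_coord]
  have hv1 : v = 1 := by
    have e := ConcreteCategory.congr_hom (Scheme.Hom.congr_app hcomm ((𝔸(n; X) ↘ X) ⁻¹ᵁ U)) g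
    rw [Scheme.Hom.comp_app, Scheme.Hom.comp_app, CommRingCat.comp_apply, CommRingCat.comp_apply,
      CommRingCat.comp_apply, h, map_one, map_one] at e
    rw [← hw]
    refine Eq.trans ?_ ((congrArg (AModX.resR ((zsec n U.toScheme).preimage_mono htop.ge)) e).trans (map_one _))
    show ((AModX.resR htop.ge (j.app _ g)) |> (zsec n U.toScheme).app ⊤) = _
    exact ConcreteCategory.congr_hom ((zsec n U.toScheme).naturality (homOfLE htop.ge).op) (j.app _ g)
  have hw1 : w = 1 := by rw [← hv, hv1, map_one]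
  have hj : j.app ((𝔸(n; X) ↘ X) ⁻¹ᵁ U) g = 1 := by
    have := congrArg (AModX.resR htop.le) hw1
    rw [map_one, AModX.resR_resR, AModX.resR_self] at this
    exact this
  exact (ConcreteCategory.bijective_of_isIso (j.app ((𝔸(n; X) ↘ X) ⁻¹ᵁ U))).1 (hj.trans (map_one _).symm)

theorem isUnit_of_frames {M : X.Modules} {U : X.Opens} {a b : Γ(M, U)} (ha : IsFrame a) (hb : IsFrame b) {g : Γ(X, U)}
    (h : b = g • a) : IsUnit g := by
  obtain ⟨d, hd⟩ := hb.exists_coord le_rfl a
  rw [AModX.res_self] at hd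
  refine IsUnit.of_mul_eq_one d (ha.coord_unique le_rfl ?_)
  rw [one_smul, AModX.res_self, mul_comm, mul_smul, ← h, ← hd]

theorem nonempty_iso_of_frames {M : X.Modules} {ι : Type u} (U : ι → X.Opens) (hcov : ∀ x, ∃ a, x ∈ U a)
    (e : ∀ a, Γ(M, U a)) (he : ∀ a, IsFrame (e a))
    (hagree : ∀ a b, AModX.res M (inf_le_left : U a ⊓ U b ≤ U a) (e a) = AModX.res M inf_le_right (e b)) :
    Nonempty (M ≅ Coh.structureModule X) := by
  let o : ∀ a, Γ(Coh.structureModule X, U a) := fun a => (show Γ(Coh.structureModule X, U a) from (1 : Γ(X, U a)))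
  have ho : ∀ a, IsFrame (o a) := fun a => InvX.isFrame_one (U a)
  have hres : ∀ (a b : ι) (W : X.Opens) (ha : W ≤ U a) (hb : W ≤ U b), AModX.res M hb (e b) = AModX.res M ha (e a) := by
    intro a b W ha hb
    have := congrArg (AModX.res M (le_inf ha hb)) (hagree a b)
    rw [AModX.res_res, AModX.res_res] at this
    exact this.symm
  have hone : ∀ (a : ι) (W : X.Opens) (ha : W ≤ U a),
      AModX.res (Coh.structureModule X) ha (o a) = (show Γ(Coh.structureModule X, W) from (1 : Γ(X, W))) :=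
    fun a W ha => map_one (AModX.resR ha)
  refine ⟨⟨ofFrames hcov he (n := o) ?_, ofFrames hcov ho (n := e) ?_, ?_, ?_⟩⟩
  · intro a b W ha hb g hg
    rw [hres a b W ha hb] at hg
    have : g = 1 := ((he a).coord_unique ha (hg.symm.trans (hres a a W ha ha).symm |>.trans (by rw [one_smul])))
    rw [this, one_smul, hone, hone]
  · intro a b W ha hb g hg
    have : g = 1 := (ho a).coord_unique ha (hg.symm.trans (by rw [one_smul, hone, hone]))
    rw [this, one_smul, hres a b W ha hb]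
  · refine hom_ext_of_frames U hcov e he fun a => ?_
    rw [Scheme.Modules.Hom.comp_app, ConcreteCategory.comp_apply, ofFrames_app, ofFrames_app]
    rfl
  · refine hom_ext_of_frames U hcov o ho fun a => ?_
    rw [Scheme.Modules.Hom.comp_app, ConcreteCategory.comp_apply, ofFrames_app, ofFrames_app]
    rfl

variable [IsReduced X]

theorem nonempty_trivial (L : (𝔸(n; X)).Modules)
    (h0 : Nonempty ((Scheme.Modules.pullback (zsec n X)).obj L ≅ Coh.structureModule X))
    (hloc : ∀ x : X, ∃ (U : X.Opens) (_ : x ∈ U) (e : Γ(L, (𝔸(n; X) ↘ X) ⁻¹ᵁ U)), IsFrame e) :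
    Nonempty (L ≅ Coh.structureModule 𝔸(n; X)) := by
  obtain ⟨φ⟩ := h0
  let π := 𝔸(n; X) ↘ X
  let s := zsec n X
  let ε : Γ((Scheme.Modules.pullback s).obj L, ⊤) :=
    φ.symm.hom.app ⊤ (show Γ(Coh.structureModule X, ⊤) from (1 : Γ(X, ⊤)))
  have hε : IsFrame ε := (InvX.isFrame_one ⊤).map_iso φ.symm
  have norm : ∀ x : X, ∃ (U : X.Opens) (_ : x ∈ U) (e : Γ(L, π ⁻¹ᵁ U)), IsFrame e ∧
      pullElt s e = AModX.res _ le_top ε := by
    intro x
    obtain ⟨U, hx, e, he⟩ := hloc x
    have hp := InvX.isFrame_pullElt s he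
    obtain ⟨c, hc⟩ := hε.exists_coord le_top (pullElt s e)
    have hcu : IsUnit c := isUnit_of_frames (hε.res le_top) hp hc
    obtain ⟨d, hd⟩ : ∃ d, c * d = 1 := ⟨↑hcu.unit⁻¹, hcu.mul_val_inv⟩
    have hdu : IsUnit d := IsUnit.of_mul_eq_one c (by rw [mul_comm, hd])
    refine ⟨U, hx, π.app U (AModX.resR (zsec_preimage n U).ge d) • e,
      he.isUnit_smul ((hdu.map _).map _), ?_⟩
    rw [InvX.pullElt_smul, zsec_app, AModX.resR_resR, AModX.resR_self, hc, ← mul_smul, mul_comm, hd, one_smul]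
  choose U hU e he hne using norm
  refine nonempty_iso_of_frames (fun x : X => π ⁻¹ᵁ U x) (fun z => ⟨π z, hU (π z)⟩) e he fun a b => ?_
  obtain ⟨g, hg⟩ := (he a).exists_coord (inf_le_left : π ⁻¹ᵁ U a ⊓ π ⁻¹ᵁ U b ≤ _)
    (AModX.res L inf_le_right (e b))
  have hgu : IsUnit g := isUnit_of_frames ((he a).res _) ((he b).res _) hg
  have h1 : s.app (π ⁻¹ᵁ U a ⊓ π ⁻¹ᵁ U b) g = 1 := by
    have e1 := congrArg (pullElt s) hg
    rw [InvX.pullElt_smul, ← InvX.res_pullElt, ← InvX.res_pullElt, hne, hne, AModX.res_res, AModX.res_res] at e1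
    exact hε.coord_unique le_top (e1.symm.trans (one_smul _ _).symm)
  rw [eq_one_of_zsec n (U a ⊓ U b) g hgu h1, one_smul] at hg
  exact hg.symm

/-- Modules on affine space over a reduced scheme trivial over every local ring and on the zero section are trivial. -/
theorem trivial_of_local [Finite n] (hX : ∀ L : X.Modules, PicF.IsInvertible L → Nonempty (L ≅ Coh.structureModule X))
    (hloc : ∀ x : X, ∀ L : (𝔸(n; Spec (X.presheaf.stalk x))).Modules, PicF.IsInvertible L →
      Nonempty (L ≅ Coh.structureModule 𝔸(n; Spec (X.presheaf.stalk x))))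
    (L : (𝔸(n; X)).Modules) (hL : PicF.IsInvertible L) : Nonempty (L ≅ Coh.structureModule 𝔸(n; X)) :=
  nonempty_trivial n L (hX _ (PicClLib.isInvertible_pullback _ hL))
    fun x => exists_frame_nhd n hL x (hloc x _ (PicClLib.isInvertible_pullback _ hL))

end Groth.Agent.PicAn
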