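import Groth.Agent.PicAn.FrameOfIso
import Groth.Agent.PicLocLib.HensPairPic
import Mathlib.AlgebraicGeometry.AffineSpace
import Mathlib.RingTheory.MvPolynomial.Localization

/-!
# Triviality on affine space over a local ring spreads out
-/

set_option autoImplicit false
set_option linter.style.haveILetI false
set_option backward.isDefEq.respectTransparency false
set_option backward.isDefEq.respectTransparency.types false
set_option synthInstance.maxHeartbeats 400000

universe u

open CategoryTheory CategoryTheory.Limits AlgebraicGeometry TopologicalSpace Opposite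
open scoped TensorProduct

noncomputable section

namespace Groth.Agent.PicAn

open Groth.Agent InvX

/-- A module trivial over a localization is trivial over some principal localization. -/
theorem exists_away_iso {B B' : Type u} [CommRing B] [CommRing B'] [Algebra B B'] (S : Submonoid B)
    [IsLocalization S B'] (P : Type u) [AddCommGroup P] [Module B P] [Module.FinitePresentation B P]
    (l : B' ⊗[B] P ≃ₗ[B'] B') :
    ∃ g ∈ S, Nonempty (Localization.Away g ⊗[B] P ≃ₗ[Localization.Away g] Localization.Away g) := by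
  haveI : IsLocalizedModule S (TensorProduct.mk B B' P 1) :=
    (isLocalizedModule_iff_isBaseChange S B' _).mpr (TensorProduct.isBaseChange B P B')
  haveI : IsLocalizedModule S (Algebra.linearMap B B') := (isLocalizedModule_iff_isLocalization' (S := S) (A := B')).mpr inferInstance
  obtain ⟨g, hg, l', -⟩ := Module.FinitePresentation.exists_lift_equiv_of_isLocalizedModule S
    (TensorProduct.mk B B' P 1) (Algebra.linearMap B B') (l.restrictScalars B)
  exact ⟨g, hg, ⟨((LocalizedModule.equivTensorProduct (Submonoid.powers g) P).symm.trans l').trans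
    ((LocalizedModule.equivTensorProduct (Submonoid.powers g) B).trans
      (TensorProduct.AlgebraTensorModule.rid B (Localization.Away g) (Localization.Away g)))⟩⟩

theorem nonempty_extendScalars_iso {B C : Type u} [CommRing B] [CommRing C] [inst : Algebra B C] (P : ModuleCat.{u} B)
    (l : C ⊗[B] P ≃ₗ[C] C) :
    Nonempty ((ModuleCat.extendScalars.{_, _, u} (algebraMap B C)).obj P ≅ ModuleCat.of C C) := by
  have key : ∀ (φ : B →+* C), inst = φ.toAlgebra →
      Nonempty ((ModuleCat.extendScalars.{_, _, u} φ).obj P ≅ ModuleCat.of C C) := by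
    intro φ hφ
    subst hφ
    exact ⟨LinearEquiv.toModuleIso (X₁ := (ModuleCat.extendScalars.{_, _, u} φ).obj P) (X₂ := C) l⟩
  exact key _ (Algebra.algebra_ext _ _ fun _ => rfl)

variable (n : Type u) [Finite n] {X : Scheme.{u}}

/-- the chart of affine space over an affine open -/
def chart {U : X.Opens} (hU : IsAffineOpen U) :
    Spec (CommRingCat.of (MvPolynomial n Γ(X, U))) ⟶ 𝔸(n; X) :=
  (AffineSpace.SpecIso n Γ(X, U)).inv ≫ AffineSpace.map n hU.fromSpec

omit [Finite n] in
theorem isOpenImmersion_map {S T : Scheme.{u}} (f : S ⟶ T) [IsOpenImmersion f] :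
    IsOpenImmersion (AffineSpace.map n f) :=
  MorphismProperty.of_isPullback (AffineSpace.isPullback_map (n := n) f).flip ‹_›

omit [Finite n] in
theorem opensRange_map {S T : Scheme.{u}} (f : S ⟶ T) [IsOpenImmersion f] :
    haveI := isOpenImmersion_map n f
    (AffineSpace.map n f).opensRange = (𝔸(n; T) ↘ T) ⁻¹ᵁ f.opensRange := by
  haveI := isOpenImmersion_map n f
  have hp := AffineSpace.isPullback_map (n := n) f
  refine Opens.ext ?_
  show Set.range (AffineSpace.map n f) = _
  have hsur : Function.Surjective hp.isoPullback.hom := hp.isoPullback.hom.homeomorph.surjective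
  rw [← hp.isoPullback_hom_fst, Scheme.Hom.comp_base, TopCat.coe_comp, Set.range_comp,
    Set.range_eq_univ.2 hsur, Set.image_univ, Scheme.Pullback.range_fst]
  rfl

theorem pullback_trivial_comp {Y Z : Scheme.{u}} {L : Z.Modules} (a : Y ⟶ Z) {W : Scheme.{u}} (b : W ⟶ Y)
    (h : Nonempty ((Scheme.Modules.pullback a).obj L ≅ Coh.structureModule Y)) :
    Nonempty ((Scheme.Modules.pullback (b ≫ a)).obj L ≅ Coh.structureModule W) := by
  obtain ⟨e⟩ := h
  exact ⟨((Scheme.Modules.pullbackComp b a).app L).symm ≪≫ (Scheme.Modules.pullback b).mapIso e ≪≫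
    (PicClLib.nonempty_pullback_structureModule b).some⟩

theorem isInvertible_pullback' {Y Z : Scheme.{u}} {L : Z.Modules} (hL : PicF.IsInvertible L) (a : Y ⟶ Z) :
    PicF.IsInvertible ((Scheme.Modules.pullback a).obj L) :=
  PicClLib.isInvertible_pullback a hL

/-- Triviality on affine space over the local ring spreads out. -/
theorem exists_frame_nhd {L : (𝔸(n; X)).Modules} (hL : PicF.IsInvertible L) (x : X)
    (h : Nonempty ((Scheme.Modules.pullback (AffineSpace.map n (X.fromSpecStalk x))).obj L ≅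
      Coh.structureModule 𝔸(n; Spec (X.presheaf.stalk x)))) :
    ∃ (U : X.Opens) (_ : x ∈ U) (e : Γ(L, (𝔸(n; X) ↘ X) ⁻¹ᵁ U)), InvX.IsFrame e := by
  obtain ⟨W, hW, hx, -⟩ := exists_isAffineOpen_mem_and_subset (X := X) (x := x) (U := ⊤) trivial
  letI : Algebra Γ(X, W) (X.presheaf.stalk x) := (X.presheaf.germ W x hx).hom.toAlgebra
  haveI hloc : IsLocalization.AtPrime (X.presheaf.stalk x) (hW.primeIdealOf ⟨x, hx⟩).asIdeal :=
    hW.isLocalization_stalk ⟨x, hx⟩
  let A : Type u := Γ(X, W)
  let B : Type u := MvPolynomial n Γ(X, W)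
  let B' : Type u := MvPolynomial n (X.presheaf.stalk x)
  let S : Submonoid B := (hW.primeIdealOf ⟨x, hx⟩).asIdeal.primeCompl.map (MvPolynomial.C (σ := n))
  letI : Algebra B B' := MvPolynomial.algebraMvPolynomial
  haveI : IsLocalization S B' := MvPolynomial.isLocalization _ _
  let ψ : Spec (CommRingCat.of B) ⟶ 𝔸(n; X) := chart n hW
  let g₀ : CommRingCat.of B ⟶ CommRingCat.of B' := CommRingCat.ofHom (algebraMap B B')
  have hψ : Spec.map g₀ ≫ ψ =
      (AffineSpace.SpecIso n (X.presheaf.stalk x)).inv ≫ AffineSpace.map n (X.fromSpecStalk x) := by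
    rw [← hW.fromSpecStalk_eq_fromSpecStalk hx, IsAffineOpen.fromSpecStalk, AffineSpace.map_comp,
      AffineSpace.map_SpecMap, Category.assoc, Category.assoc, Iso.inv_hom_id_assoc]
    rfl
  obtain ⟨θ⟩ := pullback_trivial_comp (L := L) _ (AffineSpace.SpecIso n (X.presheaf.stalk x)).inv h
  obtain ⟨P, hPf, hPp, -, ⟨eP⟩⟩ := PicLocLib.exists_tilde_iso (isInvertible_pullback' hL ψ)
  haveI : Module.Finite B P := hPf
  haveI : Module.Projective B P := hPp
  haveI : Module.FinitePresentation B P := Module.finitePresentation_of_projective B P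
  let eO : tilde (ModuleCat.of (CommRingCat.of B') B') ≅ Coh.structureModule _ := tildeSelf
  let e' : tilde ((ModuleCat.extendScalars.{_, _, u} g₀.hom).obj P) ≅
      tilde (ModuleCat.of (CommRingCat.of B') B') :=
    ((QCoh.tildePullbackIso g₀).app P).symm ≪≫ (Scheme.Modules.pullback (Spec.map g₀)).mapIso eP ≪≫
      (Scheme.Modules.pullbackComp (Spec.map g₀) ψ).app L ≪≫ (Scheme.Modules.pullbackCongr hψ).app L ≪≫ θ ≪≫ eO.symm
  let l : B' ⊗[B] P ≃ₗ[B'] B' :=
    ((tilde.fullyFaithfulFunctor (R := CommRingCat.of B')).preimageIso e').toLinearEquiv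
  obtain ⟨g, ⟨f, hf, rfl⟩, ⟨lg⟩⟩ := exists_away_iso S P l
  let Bf : Type u := Localization.Away (MvPolynomial.C (σ := n) f)
  let g₁ : CommRingCat.of B ⟶ CommRingCat.of Bf := CommRingCat.ofHom (algebraMap B Bf)
  let eOf : tilde (ModuleCat.of (CommRingCat.of Bf) Bf) ≅ Coh.structureModule _ := tildeSelf
  let θf : (Scheme.Modules.pullback (Spec.map g₁ ≫ ψ)).obj L ≅ Coh.structureModule _ :=
    ((Scheme.Modules.pullbackComp (Spec.map g₁) ψ).app L).symm ≪≫
      (Scheme.Modules.pullback (Spec.map g₁)).mapIso eP.symm ≪≫ (QCoh.tildePullbackIso g₁).app P ≪≫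
      (tilde.functor (CommRingCat.of Bf)).mapIso
        (nonempty_extendScalars_iso P lg).some ≪≫
      eOf
  haveI : IsOpenImmersion (AffineSpace.map n hW.fromSpec) := isOpenImmersion_map n _
  haveI : IsOpenImmersion (Spec.map g₁) :=
    IsOpenImmersion.of_isLocalization (MvPolynomial.C (σ := n) f)
  haveI : IsOpenImmersion ψ := inferInstanceAs (IsOpenImmersion (_ ≫ _))
  refine ⟨X.basicOpen f, ?_, exists_frame_of_pullback (Spec.map g₁ ≫ ψ) θf _ ?_⟩
  · exact (hW.isLocalization_stalk ⟨x, hx⟩ |> fun _ => (X.mem_basicOpen f x hx).2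
      (IsLocalization.map_units (X.presheaf.stalk x) (⟨f, hf⟩ : (hW.primeIdealOf ⟨x, hx⟩).asIdeal.primeCompl)))
  · refine Opens.ext ?_
    show _ = Set.range (Spec.map g₁ ≫ ψ)
    rw [Scheme.Hom.comp_base, TopCat.coe_comp, Set.range_comp]
    show _ = ψ '' Set.range (PrimeSpectrum.comap (algebraMap B Bf))
    rw [PrimeSpectrum.localization_away_comap_range Bf (MvPolynomial.C (σ := n) f)]
    have h1 : ψ ⁻¹ᵁ ((𝔸(n; X) ↘ X) ⁻¹ᵁ X.basicOpen f) = PrimeSpectrum.basicOpen (MvPolynomial.C (σ := n) f) := by
      rw [← Scheme.Hom.comp_preimage]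
      show (((AffineSpace.SpecIso n Γ(X, W)).inv ≫ AffineSpace.map n hW.fromSpec) ≫ 𝔸(n; X) ↘ X) ⁻¹ᵁ _ = _
      rw [Category.assoc, AffineSpace.map_over, AffineSpace.SpecIso_inv_over_assoc, Scheme.Hom.comp_preimage,
        hW.fromSpec_preimage_basicOpen]
      rfl
    rw [← h1]
    rw [Scheme.Hom.coe_preimage ψ, Set.image_preimage_eq_inter_range, eq_comm, Set.inter_eq_left]
    intro z hz
    have : z ∈ (AffineSpace.map n hW.fromSpec).opensRange := by
      rw [opensRange_map, hW.opensRange_fromSpec]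
      exact X.basicOpen_le f hz
    obtain ⟨z', rfl⟩ := this
    obtain ⟨z'', rfl⟩ := (AffineSpace.SpecIso n Γ(X, W)).inv.homeomorph.surjective z'
    exact ⟨z'', rfl⟩

end Groth.Agent.PicAn
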